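import Mathlib
import Groth.Agent.S0007
import Groth.Agent.S0009
import Groth.Agent.S0027
import Groth.Agent.Lib.Lead.CohLES.PushEquiv
import Groth.Agent.Lib.Lead.PN.AmpleDev
import Groth.Agent.Lib.Helper5.Curve2.C

/-!
# A Noetherian scheme all of whose integral closed subschemes are affine is affine.
-/

set_option autoImplicit false
universe u
open CategoryTheory CategoryTheory.Limits AlgebraicGeometry TopologicalSpace Opposite

namespace Groth.Agent.H5.Curve5

open Groth.Agent.LD Groth.Agent.LD.QC

/-- a Noetherian scheme all of whose integral closed subschemes are affine is affine. -/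
theorem isAffine_of_integral_closed_affine (X : Scheme.{u}) [IsNoetherian X]
    (h : ∀ (Z : Scheme.{u}) (i : Z ⟶ X), IsClosedImmersion i → IsIntegral Z → IsAffine Z) :
    IsAffine X := by
  by_cases hne : Nonempty X
  swap
  · rw [not_nonempty_iff] at hne
    exact isAffine_of_isEmpty
  have key : ∀ M : X.Modules, Coh.IsCoh M → Subsingleton (Coh.HH X M 1) := by
    intro M hM
    refine Groth.Agent.S0027.result X (fun M => Subsingleton (Coh.HH X M 1))
      (fun M N ⟨e⟩ hM => CL.subsingleton_of_iso e 1 hM)
      (fun S hS _ _ _ h1 h3 => CL.subsingleton_mid hS 1 h1 h3) ?_ M hM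
    intro Z i hi hZ I ι hmono hqc
    haveI := hi
    haveI : IsAffine Z := h Z i hi hZ
    haveI : Coh.IsQCoh I := hqc
    exact (CL.subsingleton_HH_push_iff i I 1).mpr (Groth.Agent.S0007.result Z I 1 Nat.one_pos)
  apply Groth.Agent.S0009.result X
  intro I i hi hqc
  haveI := hi
  exact key I (isCoh_of_mono i hqc (Groth.Agent.H5.Curve2.isCoh_of_isInvertible (isInvertible_unit X)))

end Groth.Agent.H5.Curve5
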