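import Mathlib
import Groth.Agent.Lib.Helper5.VAmple.Q
import Groth.Agent.Lib.Helper5.VAmple.L
import Groth.Agent.Lib.Helper5.Segre.D

/-!
# On a proper scheme over an affine base, the non-vanishing locus of a section of an ample
invertible module is affine.
-/

set_option autoImplicit false
universe u
open CategoryTheory CategoryTheory.Limits AlgebraicGeometry TopologicalSpace Opposite

namespace Groth.Agent.H5.Curve5

open Groth.Agent.LD Groth.Agent.LD.QC Groth.Agent.H5.VAmple Groth.Agent.H5.Segre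

variable {X S : Scheme.{u}}

/-- for `q : X ⟶ S` proper with `S` affine and `L` ample on `X`, the locus where a section of `L`
generates is affine. -/
theorem isAffineOpen_genLocus_of_isAmple_of_isProper [IsAffine S] (q : X ⟶ S) [IsProper q]
    (L : X.Modules) (hL : CohB1.IsAmple L) (s₀ : unitMod X ⟶ L) :
    IsAffineOpen (CohB1.genLocus L s₀) := by
  obtain ⟨m, N, hMN, n, s, hs, k₀, hm, hN, himm, hk₀⟩ := exists_pow_toPn_isImmersion q L hL s₀
  haveI := himm
  set i := toPn q _ hMN s hs with hi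
  haveI := Groth.Agent.H5.AG.isProper_toBase n S
  haveI : IsProper (i ≫ CohB1.ProjSpaceOver.toBase n S) := by
    rw [hi, toPn_toBase]; infer_instance
  haveI : IsProper i := IsProper.of_comp i (CohB1.ProjSpaceOver.toBase n S)
  haveI : IsClosedImmersion i :=
    IsClosedImmersion.of_isPreimmersion i i.isClosedMap.isClosed_range
  -- the first projection is affine
  haveI : IsAffineHom (specULiftZIsTerminal.from S) := inferInstance
  haveI : IsAffineHom (pullback.fst (CohB1.ProjSpace.toSpec n (ULift.{u} ℤ))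
      (specULiftZIsTerminal.from S)) :=
    MorphismProperty.pullback_fst _ _ inferInstance
  haveI : IsAffineHom i := inferInstance
  have hg : IsAffineHom (i ≫ pullback.fst (CohB1.ProjSpace.toSpec n (ULift.{u} ℤ))
      (specULiftZIsTerminal.from S)) := MorphismProperty.comp_mem _ _ _ ‹_› ‹_›
  have h1 : IsAffineOpen ((i ≫ pullback.fst (CohB1.ProjSpace.toSpec n (ULift.{u} ℤ))
      (specULiftZIsTerminal.from S)) ⁻¹ᵁ Dp n (ULift.{u} ℤ) k₀) :=
    @IsAffineOpen.preimage _ _ _ (isAffineOpen_Dp n (ULift.{u} ℤ) k₀) _ hg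
  have h2 : (i ≫ pullback.fst (CohB1.ProjSpace.toSpec n (ULift.{u} ℤ))
      (specULiftZIsTerminal.from S)) ⁻¹ᵁ Dp n (ULift.{u} ℤ) k₀ = Xs _ s k₀ :=
    (preimage_congr_hom (toPn_fst q _ hMN s hs) _).trans (toPnZ_preimage _ hMN s hs k₀)
  rw [h2, Xs_eq, hk₀, homOfSection_sectionOfHom] at h1
  have hM : PicF.IsInvertible (CohB1.tensorPow L m) := isInvertible_tensorPow hL.1 m
  obtain ⟨N', rfl⟩ : ∃ N', N = N' + 1 := ⟨N - 1, by omega⟩
  obtain ⟨m', rfl⟩ : ∃ m', m = m' + 1 := ⟨m - 1, by omega⟩
  rw [genLocus_powHom_succ hM, genLocus_powHom_succ hL.1] at h1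
  exact h1

end Groth.Agent.H5.Curve5
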