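import Mathlib
import Groth.Agent.Lib.Helper5.Curve3.Proj

/-!
# Invertible modules with a section vanishing exactly on a prescribed finite set of closed points
(dimension `≤ 1`).
-/

set_option autoImplicit false
universe u
open CategoryTheory CategoryTheory.Limits AlgebraicGeometry TopologicalSpace Opposite

namespace Groth.Agent.H5.Curve5

open Groth.Agent.LD Groth.Agent.LD.QC Groth.Agent.H5.Glue Groth.Agent.H5.Curve3

variable {X : Scheme.{u}}

/-- an invertible module with a section whose zero set is exactly the closed point `x`. -/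
theorem exists_invertible_section_genLocus_eq_compl_singleton [IsNoetherian X]
    (hdim : topologicalKrullDim X ≤ 1) (x x' : X) (hsp : x' ⤳ x) (hne : x' ≠ x) :
    ∃ (L : X.Modules) (s : unitMod X ⟶ L), PicF.IsInvertible L ∧
      (CohB1.genLocus L s : Set X) = {x}ᶜ := by
  have hxcl : IsClosed ({x} : Set X) := isClosed_singleton_of_generalization hdim hsp hne
  obtain ⟨_, ⟨V, hV, rfl⟩, hxV, -⟩ :=
    X.isBasis_affineOpens.exists_subset_of_mem_open (Set.mem_univ x) isOpen_univ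
  have hx'V : x' ∈ V := hsp.mem_open V.2 hxV
  haveI : IsNoetherianRing Γ(X, V) := IsLocallyNoetherian.component_noetherian ⟨V, hV⟩
  have hinj : Function.Injective hV.fromSpec := hV.fromSpec.isOpenEmbedding.injective
  have hm : (hV.primeIdealOf ⟨x, hxV⟩).asIdeal ∉ minimalPrimes Γ(X, V) := by
    intro hmin
    have h1 : hV.fromSpec (hV.primeIdealOf ⟨x', hx'V⟩) ⤳ hV.fromSpec (hV.primeIdealOf ⟨x, hxV⟩) := by
      rw [hV.fromSpec_primeIdealOf, hV.fromSpec_primeIdealOf]
      exact hsp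
    have h2 := hV.fromSpec.isOpenEmbedding.isInducing.specializes_iff.1 h1
    have hle : (hV.primeIdealOf ⟨x', hx'V⟩).asIdeal ≤ (hV.primeIdealOf ⟨x, hxV⟩).asIdeal :=
      (PrimeSpectrum.le_iff_specializes (R := Γ(X, V)) _ _).2 h2
    have hge := hmin.2 ⟨(hV.primeIdealOf ⟨x', hx'V⟩).isPrime, bot_le⟩ hle
    have heq : hV.primeIdealOf ⟨x', hx'V⟩ = hV.primeIdealOf ⟨x, hxV⟩ :=
      PrimeSpectrum.ext (le_antisymm hle hge)
    apply hne
    have := congrArg hV.fromSpec heq
    rwa [hV.fromSpec_primeIdealOf, hV.fromSpec_primeIdealOf] at this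
  obtain ⟨f, hfm, hf⟩ := exists_mem_notMem_minimalPrimes _ _ hm
  have hxf : x ∉ X.basicOpen f := by
    rw [mem_basicOpen_iff_notMem_primeIdealOf hV f x hxV]
    exact not_not.mpr hfm
  have hclosed : ∀ y ∈ V, y ∉ X.basicOpen f → IsClosed ({y} : Set X) := by
    intro y hy hyf
    rw [mem_basicOpen_iff_notMem_primeIdealOf hV f y hy, not_not] at hyf
    obtain ⟨p, hp, hpq⟩ := Ideal.exists_minimalPrimes_le
      (bot_le : ⊥ ≤ (hV.primeIdealOf ⟨y, hy⟩).asIdeal)
    have hpne : p ≠ (hV.primeIdealOf ⟨y, hy⟩).asIdeal := fun h => hf p hp (h ▸ hyf)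
    let P : PrimeSpectrum Γ(X, V) := ⟨p, hp.1.1⟩
    have hsp' : hV.fromSpec P ⤳ y := by
      have h1 : P ⤳ hV.primeIdealOf ⟨y, hy⟩ :=
        (PrimeSpectrum.le_iff_specializes (R := Γ(X, V)) _ _).mp hpq
      have h2 := h1.map hV.fromSpec.continuous
      rwa [hV.fromSpec_primeIdealOf] at h2
    have hne' : hV.fromSpec P ≠ y := by
      intro h
      apply hpne
      have : P = hV.primeIdealOf ⟨y, hy⟩ :=
        hinj (h.trans (hV.fromSpec_primeIdealOf ⟨y, hy⟩).symm)
      exact congrArg PrimeSpectrum.asIdeal this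
    exact isClosed_singleton_of_generalization hdim hsp' hne'
  -- the zero set is finite
  haveI : NoetherianSpace (Scheme.Opens.toScheme V) := noetherianSpace_of_isAffineOpen V hV
  let Z' : Set (Scheme.Opens.toScheme V) :=
    ((Scheme.Opens.ι V ⁻¹ᵁ X.basicOpen f : (Scheme.Opens.toScheme V).Opens) : Set _)ᶜ
  have hZ'cl : IsClosed Z' :=
    (Scheme.Opens.ι V ⁻¹ᵁ X.basicOpen f).isOpen.isClosed_compl
  have hZ'mem : ∀ y : Scheme.Opens.toScheme V, y ∈ Z' ↔ y.1 ∉ X.basicOpen f := fun y => Iff.rfl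
  have hZ'fin : Z'.Finite := by
    apply Curve2.finite_of_isClosed_of_closed_points (X := Scheme.Opens.toScheme V) Z' hZ'cl
    intro y hy
    have h1 := hclosed y.1 y.2 ((hZ'mem y).mp hy)
    have h2 : ({y} : Set (Scheme.Opens.toScheme V)) =
        (Scheme.Opens.ι V) ⁻¹' ({y.1} : Set X) := by
      ext z
      simp only [Set.mem_singleton_iff, Set.mem_preimage]
      exact ⟨fun h => congrArg Subtype.val h, fun h => Subtype.ext h⟩
    rw [h2]
    exact h1.preimage (Scheme.Opens.ι V).continuous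
  let Z : Set X := {y | y ∈ V ∧ y ∉ X.basicOpen f}
  have hZeq : Z = Subtype.val '' Z' := by
    ext y
    constructor
    · rintro ⟨hy1, hy2⟩
      exact ⟨⟨y, hy1⟩, (hZ'mem ⟨y, hy1⟩).mpr hy2, rfl⟩
    · rintro ⟨z, hz, rfl⟩
      exact ⟨z.2, (hZ'mem z).mp hz⟩
  have hZfin : Z.Finite := hZeq ▸ hZ'fin.image _
  -- the other zeros
  let Z₁ : Set X := Z \ {x}
  have hZ₁fin : Z₁.Finite := hZfin.subset Set.sdiff_subset
  have hZ₁cl : IsClosed Z₁ := by
    have : Z₁ = ⋃ y ∈ Z₁, ({y} : Set X) := by simp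
    rw [this]
    exact hZ₁fin.isClosed_biUnion (fun y hy => hclosed y hy.1.1 hy.1.2)
  let V₀ : X.Opens := V ⊓ ⟨Z₁ᶜ, hZ₁cl.isOpen_compl⟩
  let U₀ : X.Opens := ⟨{x}ᶜ, hxcl.isOpen_compl⟩
  have hxV₀ : x ∈ V₀ := ⟨hxV, fun h => h.2 rfl⟩
  have hcov : U₀ ⊔ V₀ = ⊤ := by
    apply le_antisymm le_top
    intro y _
    by_cases hy : y = x
    · exact Or.inr (hy ▸ hxV₀)
    · exact Or.inl hy
  have hV₀V : V₀ ≤ V := inf_le_left
  let f₀ : Γ(X, V₀) := res hV₀V f
  have hle : U₀ ⊓ V₀ ≤ X.basicOpen f := by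
    rintro y ⟨hy1, hy2, hy3⟩
    by_contra h
    exact hy3 ⟨⟨hy2, h⟩, hy1⟩
  have hunit : IsUnit (res (inf_le_right : U₀ ⊓ V₀ ≤ V₀) f₀) := by
    change IsUnit (res _ (res hV₀V f))
    rw [Glue.res_res]
    exact isUnit_res_of_le_basicOpen f _ hle
  obtain ⟨L, s, hL, h1, h2⟩ := exists_invertible_of_two_cover U₀ V₀ hcov f₀ hunit
  refine ⟨L, s, hL, ?_⟩
  apply Set.Subset.antisymm
  · intro y hy hyx
    rw [Set.mem_singleton_iff] at hyx
    subst hyx
    have : y ∈ CohB1.genLocus L s ⊓ V₀ := ⟨hy, hxV₀⟩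
    rw [h2] at this
    have h3 : X.basicOpen f₀ ≤ X.basicOpen f := by
      change X.basicOpen (X.presheaf.map (homOfLE hV₀V).op f) ≤ _
      rw [Scheme.basicOpen_res]
      exact inf_le_right
    exact hxf (h3 this)
  · intro y hy
    exact h1 hy

/-- an invertible module with a section whose zero set is exactly a prescribed finite set of
closed points having proper generalizations. -/
theorem exists_invertible_section_genLocus_eq_compl [IsNoetherian X]
    (hdim : topologicalKrullDim X ≤ 1) (F : Finset X)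
    (hF : ∀ x ∈ F, ∃ x' : X, x' ⤳ x ∧ x' ≠ x) :
    ∃ (L : X.Modules) (s : unitMod X ⟶ L), PicF.IsInvertible L ∧
      (CohB1.genLocus L s : Set X) = (F : Set X)ᶜ := by
  classical
  induction F using Finset.induction_on with
  | empty =>
    refine ⟨unitMod X, 𝟙 _, isInvertible_unit X, ?_⟩
    rw [genLocus_id]
    simp
  | insert x F hxF ih =>
    obtain ⟨L, s, hL, h1⟩ := ih (fun y hy => hF y (Finset.mem_insert_of_mem hy))
    obtain ⟨x', hsp, hne⟩ := hF x (Finset.mem_insert_self x F)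
    obtain ⟨L', s', hL', h1'⟩ :=
      exists_invertible_section_genLocus_eq_compl_singleton hdim x x' hsp hne
    refine ⟨CohB1.tensorMod L L', SecTwist.tmulHom s s', isInvertible_tensorMod hL hL', ?_⟩
    rw [genLocus_tmulHom hL hL']
    change (CohB1.genLocus L s : Set X) ∩ (CohB1.genLocus L' s' : Set X) = _
    rw [h1, h1']
    ext y
    simp only [Set.mem_inter_iff, Set.mem_compl_iff, Finset.mem_coe, Set.mem_singleton_iff,
      Finset.coe_insert, Set.mem_insert_iff]
    tauto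

end Groth.Agent.H5.Curve5
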