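import Mathlib
import Groth.Agent.Lib.Helper5.Curve5.Exact
import Groth.Agent.Lib.Helper5.Curve5.AffGen
import Groth.Agent.Lib.Helper5.Curve3.HProj
import Groth.Agent.Lib.Helper5.Curve1.G
import Groth.Agent.Lib.Helper2.ImageReduced
import Groth.Agent.Lib.Helper1.RelDim

/-!
# An integral curve over a field is affine or H-projective.
-/

set_option autoImplicit false
universe u
open CategoryTheory CategoryTheory.Limits AlgebraicGeometry TopologicalSpace Opposite

namespace Groth.Agent.H5.Curve5

open Groth.Agent.LD Groth.Agent.LD.QC Groth.Agent.H5.VAmple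

section proper

variable (k : Type u) [Field k] (Y : Scheme.{u}) [Y.Over (Spec (CommRingCat.of k))]
  [IsProper (Y ↘ Spec (CommRingCat.of k))] [IsIntegral Y]

include k in
/-- on an integral proper curve, every nonempty open different from the whole curve is affine. -/
theorem isAffineOpen_of_ne_top (hdim : topologicalKrullDim Y ≤ 1) (U : Y.Opens)
    (hU : (U : Set Y).Nonempty) (hne : U ≠ ⊤) : IsAffineOpen U := by
  classical
  haveI := Curve2.isNoetherian_of_proper k Y
  have hfin : ((U : Set Y)ᶜ).Finite := Curve1.finite_compl_of_nonempty hdim U hU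
  have hηU : genericPoint Y ∈ U :=
    ((genericPoint_spec Y).mem_open_set_iff U.isOpen).mpr (by simpa using hU)
  have hF : ∀ x ∈ hfin.toFinset, ∃ x' : Y, x' ⤳ x ∧ x' ≠ x := by
    intro x hx
    rw [hfin.mem_toFinset] at hx
    refine ⟨genericPoint Y, genericPoint_specializes x, ?_⟩
    rintro rfl
    exact hx hηU
  obtain ⟨L, s, hL, hgl⟩ := exists_invertible_section_genLocus_eq_compl hdim hfin.toFinset hF
  rw [hfin.coe_toFinset, compl_compl] at hgl
  have hUeq : CohB1.genLocus L s = U := Opens.ext hgl
  have hs0 : s ≠ 0 := Curve2.ne_zero_of_mem_genLocus Y s (genericPoint Y) (hUeq ▸ hηU)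
  obtain ⟨x, hx⟩ : ∃ x : Y, x ∉ U := by
    by_contra hcon
    push Not at hcon
    exact hne (eq_top_iff.mpr fun y _ => hcon y)
  have hdeg : 0 < Curv2.deg k Y L 1 :=
    Curve2.deg_pos_of_section k Y hdim hL s hs0 x (hUeq ▸ hx)
  have hamp : CohB1.IsAmple L := Curve2.isAmple_of_deg_pos k Y hdim hL hdeg
  rw [← hUeq]
  exact isAffineOpen_genLocus_of_isAmple_of_isProper (Y ↘ Spec (CommRingCat.of k)) L hamp s

end proper

section main

variable (k : Type u) [Field k] (X : Scheme.{u}) [X.Over (Spec (CommRingCat.of k))]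
  [IsIntegral X] [IsSeparated (X ↘ Spec (CommRingCat.of k))]
  [LocallyOfFiniteType (X ↘ Spec (CommRingCat.of k))]
  [QuasiCompact (X ↘ Spec (CommRingCat.of k))]

/-- **S1627**: an integral curve over a field is affine or H-projective. -/
theorem affine_or_projective (hdim : topologicalKrullDim X = 1) :
    IsAffine X ∨ ∃ (d : ℕ) (c : X ⟶ CohB1.ProjSpace d k), IsClosedImmersion c ∧
      c ≫ CohB1.ProjSpace.toSpec d k = X ↘ (Spec (CommRingCat.of k)) := by
  haveI : IsLocallyNoetherian X :=
    LocallyOfFiniteType.isLocallyNoetherian (X ↘ Spec (CommRingCat.of k))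
  haveI : CompactSpace X :=
    QuasiCompact.compactSpace_of_compactSpace (X ↘ Spec (CommRingCat.of k))
  haveI : IsNoetherian X := {}
  haveI : X.IsSeparated :=
    (HasAffineProperty.iff_of_isAffine (P := @IsSeparated)).mp
      (inferInstance : IsSeparated (X ↘ Spec (CommRingCat.of k)))
  obtain ⟨N, hN⟩ := Curve1.exists_isAmple_of_integral (X := X) hdim.le
  obtain ⟨n, i, hi, hqc, hif⟩ :=
    exists_immersion_of_isAmple (X ↘ Spec (CommRingCat.of k)) N hN
  haveI := hi
  haveI := hqc
  -- the scheme-theoretic image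
  let Y : Scheme.{u} := i.image
  let j : X ⟶ Y := i.toImage
  let c : Y ⟶ CohB1.ProjSpaceOver n (Spec (CommRingCat.of k)) := i.imageι
  haveI : IsOpenImmersion j := inferInstanceAs (IsOpenImmersion i.toImage)
  haveI : IsClosedImmersion c := inferInstanceAs (IsClosedImmersion i.imageι)
  letI : Y.Over (Spec (CommRingCat.of k)) :=
    ⟨c ≫ CohB1.ProjSpaceOver.toBase n (Spec (CommRingCat.of k))⟩
  have hYover : Y ↘ Spec (CommRingCat.of k) =
      c ≫ CohB1.ProjSpaceOver.toBase n (Spec (CommRingCat.of k)) := rfl
  haveI := Groth.Agent.H5.AG.isProper_toBase n (Spec (CommRingCat.of k))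
  haveI : IsProper (Y ↘ Spec (CommRingCat.of k)) := by rw [hYover]; infer_instance
  haveI : IsReduced Y := Groth.Agent.H2.isReduced_image i
  haveI : IrreducibleSpace Y := Groth.Agent.H2.irreducibleSpace_image i
  haveI : IsIntegral Y := isIntegral_of_irreducibleSpace_of_isReduced Y
  have hjover : j ≫ (Y ↘ Spec (CommRingCat.of k)) = X ↘ Spec (CommRingCat.of k) := by
    rw [hYover, ← Category.assoc, i.toImage_imageι, hif]
  -- dimension
  have hdimY : topologicalKrullDim Y ≤ 1 := by
    have h1 := Groth.Agent.H1.RelDim.dim_inter_eq_dim (Y ↘ Spec (CommRingCat.of k))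
      (Set.univ : Set Y) (IrreducibleSpace.isIrreducible_univ Y) isClosed_univ j.opensRange
      (by
        obtain ⟨x⟩ := (inferInstance : Nonempty X)
        exact ⟨j x, ⟨x, rfl⟩, trivial⟩)
    have h2 : topologicalKrullDim ↥(Set.univ : Set Y) = topologicalKrullDim Y :=
      IsHomeomorph.topologicalKrullDim_eq _ (Homeomorph.Set.univ Y).isHomeomorph
    rw [Set.inter_univ, h2] at h1
    have h3 : topologicalKrullDim X = topologicalKrullDim ↥(j.opensRange : Set Y) :=
      IsHomeomorph.topologicalKrullDim_eq _
        j.isOpenEmbedding.toIsEmbedding.toHomeomorph.isHomeomorph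
    rw [← h1, ← h3, hdim]
  by_cases htop : j.opensRange = ⊤
  · -- `X` is proper
    right
    haveI : IsIso j := by
      have hsurj : Function.Surjective j := by
        intro y
        have : y ∈ j.opensRange := htop ▸ trivial
        exact this
      haveI : Surjective j := ⟨hsurj⟩
      exact (isIso_iff_isOpenImmersion_and_surjective j).mpr ⟨inferInstance, inferInstance⟩
    haveI : IsProper (X ↘ Spec (CommRingCat.of k)) := by
      rw [← hjover]; infer_instance
    exact Curve3.exists_closedImmersion_projSpace k X hdim.le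
  · -- `X` is affine
    left
    have hne : (j.opensRange : Set Y).Nonempty := by
      obtain ⟨x⟩ := (inferInstance : Nonempty X)
      exact ⟨j x, x, rfl⟩
    have haff := isAffineOpen_of_ne_top k Y hdimY j.opensRange hne htop
    haveI : IsAffine j.opensRange.toScheme := haff
    exact IsAffine.of_isIso j.isoOpensRange.hom

end main

end Groth.Agent.H5.Curve5
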