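import Mathlib
import Groth.Agent.Lib.Helper5.Curve5.Main
import Groth.Agent.Lib.Helper5.Curve5.AffCrit
import Groth.Agent.Lib.Helper3.ConsDim

/-!
# A separated scheme of finite type and dimension `≤ 1` over a field with no proper one
dimensional component is affine.
-/

set_option autoImplicit false
universe u
open CategoryTheory CategoryTheory.Limits AlgebraicGeometry TopologicalSpace Opposite

namespace Groth.Agent.H5.Curve5

open Groth.Agent.LD Groth.Agent.LD.QC Groth.Agent.H5.Curve3

variable (k : Type u) [Field k] (X : Scheme.{u}) [X.Over (Spec (CommRingCat.of k))]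
  [IsSeparated (X ↘ Spec (CommRingCat.of k))]
  [LocallyOfFiniteType (X ↘ Spec (CommRingCat.of k))] [IsNoetherian X]

/-- **S7646**. -/
theorem isAffine_of_no_proper_component (hdim : topologicalKrullDim X ≤ 1)
    (h : ∀ (C : Set X) (hC : C ∈ irreducibleComponents (X : Type u)), topologicalKrullDim C = 1 →
      ¬ IsProper ((X.irreducibleComponentIdeal C hC).radical.subschemeι ≫
        (X ↘ (Spec (CommRingCat.of k))))) :
    IsAffine X := by
  apply isAffine_of_integral_closed_affine
  intro Z i hi hZ
  haveI := hi
  haveI := hZ
  by_cases hsub : Subsingleton Z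
  · haveI := hsub
    exact Groth.Agent.H3.ConsDim.isAffine_of_subsingleton Z
  rw [not_subsingleton_iff_nontrivial] at hsub
  obtain ⟨z, hz⟩ := exists_ne (genericPoint Z)
  have hηz : genericPoint Z ⤳ z := genericPoint_specializes z
  have hxy : i (genericPoint Z) ⤳ i z := hηz.map i.continuous
  have hinj : Function.Injective i := i.isClosedEmbedding.injective
  have hne : i (genericPoint Z) ≠ i z := fun h => hz (hinj h).symm
  set x := i (genericPoint Z) with hx
  set C := irreducibleComponent x with hCdef
  have hC : C ∈ irreducibleComponents (X : Type u) :=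
    irreducibleComponent_mem_irreducibleComponents x
  have hCirr : IsIrreducible C := hC.1
  have hCcl : IsClosed C := isClosed_of_mem_irreducibleComponents C hC
  obtain ⟨x', hx'⟩ := QuasiSober.sober hCirr hCcl
  have hxC : x ∈ C := mem_irreducibleComponent
  have hx'x : x' ⤳ x := by
    rw [specializes_iff_mem_closure, hx'.def]; exact hxC
  have hx'eq : x' = x := by
    by_contra hcon
    have h2 := two_le_dim_of_chain hx'x hxy hcon hne
    have : (2 : WithBot ℕ∞) ≤ 1 := h2.trans hdim
    exact absurd this (by decide)
  have hCeq : C = closure {x} := by rw [← hx'eq]; exact hx'.def.symm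
  have hrange : Set.range i = C := by
    rw [hCeq, hx, ← Set.image_singleton, i.isClosedEmbedding.closure_image_eq,
      genericPoint_closure, Set.image_univ]
  have hyC : i z ∈ C := by rw [← hrange]; exact ⟨z, rfl⟩
  have hdimC : topologicalKrullDim C = 1 := by
    apply le_antisymm
    · exact (topologicalKrullDim_subspace_le X C).trans hdim
    · have hs : (⟨x, hxC⟩ : C) ⤳ ⟨i z, hyC⟩ :=
        (Topology.IsInducing.subtypeVal.specializes_iff).mp hxy
      exact one_le_dim_of_chain hs (fun h => hne (congrArg Subtype.val h))
  -- `Z` is an integral curve over `k`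
  letI : Z.Over (Spec (CommRingCat.of k)) := ⟨i ≫ (X ↘ Spec (CommRingCat.of k))⟩
  have hZover : Z ↘ Spec (CommRingCat.of k) = i ≫ (X ↘ Spec (CommRingCat.of k)) := rfl
  haveI : QuasiCompact (X ↘ Spec (CommRingCat.of k)) :=
    (HasAffineProperty.iff_of_isAffine (P := @QuasiCompact)).mpr inferInstance
  haveI : IsSeparated (Z ↘ Spec (CommRingCat.of k)) := by rw [hZover]; infer_instance
  haveI : LocallyOfFiniteType (Z ↘ Spec (CommRingCat.of k)) := by rw [hZover]; infer_instance
  haveI : QuasiCompact (Z ↘ Spec (CommRingCat.of k)) := by rw [hZover]; infer_instance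
  have hdimZ : topologicalKrullDim Z = 1 := by
    rw [← hdimC, ← hrange]
    exact IsHomeomorph.topologicalKrullDim_eq _
      i.isClosedEmbedding.toIsEmbedding.toHomeomorph.isHomeomorph
  rcases affine_or_projective k Z hdimZ with haff | ⟨d, c, hc, hcf⟩
  · exact haff
  · exfalso
    apply h C hC hdimC
    haveI := hc
    haveI : IsProper (Z ↘ Spec (CommRingCat.of k)) := by
      rw [← hcf]
      haveI : IsProper (CohB1.ProjSpace.toSpec d k) := Groth.Agent.H5.AG.isProper_toSpec d k
      infer_instance
    obtain ⟨g, hg, hgi⟩ := PN.AmD.exists_lift_of_isReduced i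
      (X.irreducibleComponentIdeal C hC).radical (by rw [hrange]; exact le_rfl)
    haveI := hg
    haveI : IsReduced (X.irreducibleComponentIdeal C hC).radical.subscheme :=
      isReduced_radical_subscheme _
    haveI : Surjective g := by
      constructor
      intro y
      have hy : (X.irreducibleComponentIdeal C hC).radical.subschemeι y ∈ Set.range i := by
        rw [hrange]
        have := (X.irreducibleComponentIdeal C hC).radical.range_subschemeι
        have hmem : (X.irreducibleComponentIdeal C hC).radical.subschemeι y ∈
            Set.range (X.irreducibleComponentIdeal C hC).radical.subschemeι := ⟨y, rfl⟩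
        rw [this] at hmem
        exact hmem
      obtain ⟨w, hw⟩ := hy
      refine ⟨w, ?_⟩
      apply (X.irreducibleComponentIdeal C hC).radical.subschemeι.isClosedEmbedding.injective
      rw [← hw, ← hgi]
      rfl
    haveI : IsIso g := isIso_of_isClosedImmersion_of_surjective g
    have : (X.irreducibleComponentIdeal C hC).radical.subschemeι ≫
        (X ↘ (Spec (CommRingCat.of k))) = inv g ≫ (Z ↘ Spec (CommRingCat.of k)) := by
      rw [hZover, ← hgi, Category.assoc, IsIso.inv_hom_id_assoc]
    rw [this]
    infer_instance

end Groth.Agent.H5.Curve5
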